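import Mathlib

/-!
# Group series and finitely many elements
-/

set_option autoImplicit false

namespace GrpLaw19

universe v

variable {Γ : Type v} [Group Γ]

/-- `x` lies in the image of `F H` for every homomorphism `H →* Γ` whose range contains some fixed
finite tuple. -/
def Covered (F : ∀ (H : Type v) [Group H], Subgroup H) (x : Γ) : Prop :=
  ∃ (m : ℕ) (a : Fin m → Γ), ∀ (H : Type v) [Group H] (φ : H →* Γ),
    (∀ i, a i ∈ MonoidHom.range φ) → x ∈ (F H).map φ

variable {F : ∀ (H : Type v) [Group H], Subgroup H}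

theorem covered_one : Covered F (1 : Γ) :=
  ⟨0, ![], fun _ _ φ _ => one_mem _⟩

theorem Covered.inv {x : Γ} (hx : Covered F x) : Covered F x⁻¹ := by
  obtain ⟨m, a, ha⟩ := hx
  exact ⟨m, a, fun H _ φ h => inv_mem (ha H φ h)⟩

theorem Covered.pair {x y : Γ} (hx : Covered F x) (hy : Covered F y) :
    ∃ (m : ℕ) (a : Fin m → Γ), ∀ (H : Type v) [Group H] (φ : H →* Γ),
      (∀ i, a i ∈ φ.range) → x ∈ (F H).map φ ∧ y ∈ (F H).map φ := by
  obtain ⟨m, a, ha⟩ := hx
  obtain ⟨l, b, hb⟩ := hy
  exact ⟨m + l, Fin.append a b, fun H _ φ h =>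
    ⟨ha H φ fun i => by simpa using h (Fin.castAdd l i),
      hb H φ fun i => by simpa using h (Fin.natAdd m i)⟩⟩

/-- The subgroup of covered elements. -/
def covered (F : ∀ (H : Type v) [Group H], Subgroup H) : Subgroup Γ where
  carrier := {x | Covered F x}
  one_mem' := covered_one
  inv_mem' := Covered.inv
  mul_mem' := fun hx hy => by
    obtain ⟨m, a, ha⟩ := hx.pair hy
    exact ⟨m, a, fun H _ φ h => mul_mem (ha H φ h).1 (ha H φ h).2⟩

theorem derivedSeries_le_covered (n : ℕ) :
    derivedSeries Γ n ≤ covered (fun H _ => derivedSeries H n) := by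
  induction n with
  | zero =>
    intro x _
    exact ⟨1, ![x], fun H _ φ h => by
      obtain ⟨y, hy⟩ := h 0
      exact ⟨y, Subgroup.mem_top _, by simpa using hy⟩⟩
  | succ n ih =>
    rw [derivedSeries_succ, Subgroup.commutator_le]
    intro x hx y hy
    obtain ⟨m, a, ha⟩ := (ih hx).pair (ih hy)
    refine ⟨m, a, fun H _ φ h => ?_⟩
    simp only
    rw [derivedSeries_succ, Subgroup.map_commutator]
    exact Subgroup.commutator_mem_commutator (ha H φ h).1 (ha H φ h).2

theorem lowerCentralSeries_le_covered (n : ℕ) :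
    (⊤ : Subgroup Γ).lowerCentralSeries n
      ≤ covered (fun H _ => (⊤ : Subgroup H).lowerCentralSeries n) := by
  induction n with
  | zero =>
    intro x _
    exact ⟨1, ![x], fun H _ φ h => by
      obtain ⟨y, hy⟩ := h 0
      exact ⟨y, by simp, by simpa using hy⟩⟩
  | succ n ih =>
    rw [Subgroup.lowerCentralSeries_succ, Subgroup.commutator_le]
    intro x hx y _
    obtain ⟨m, a, ha⟩ := ih hx
    refine ⟨m + 1, Fin.append a ![y], fun H _ φ h => ?_⟩
    have h1 : x ∈ ((⊤ : Subgroup H).lowerCentralSeries n).map φ :=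
      ha H φ fun i => by simpa using h (Fin.castAdd 1 i)
    have h2 : y ∈ (⊤ : Subgroup H).map φ := by
      rw [← MonoidHom.range_eq_map]
      simpa using h (Fin.natAdd m 0)
    simp only
    rw [Subgroup.lowerCentralSeries_succ, Subgroup.map_commutator]
    exact Subgroup.commutator_mem_commutator h1 h2

/-- Solvability of bounded length is local on finitely many elements. -/
theorem derivedSeries_eq_bot_of_local {n : ℕ}
    (h : ∀ (m : ℕ) (a : Fin m → Γ), ∃ (H : Type v) (_ : Group H) (φ : H →* Γ),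
      (∀ i, a i ∈ φ.range) ∧ derivedSeries H n = ⊥) :
    derivedSeries Γ n = ⊥ := by
  refine (Subgroup.eq_bot_iff_forall _).2 fun x hx => ?_
  obtain ⟨m, a, ha⟩ := derivedSeries_le_covered n hx
  obtain ⟨H, _, φ, hφ, hbot⟩ := h m a
  simpa [hbot] using ha H φ hφ

/-- Nilpotency of bounded class is local on finitely many elements. -/
theorem upperCentralSeries_eq_top_of_local {n : ℕ}
    (h : ∀ (m : ℕ) (a : Fin m → Γ), ∃ (H : Type v) (_ : Group H) (φ : H →* Γ),
      (∀ i, a i ∈ φ.range) ∧ Subgroup.upperCentralSeries H n = ⊤) :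
    Subgroup.upperCentralSeries Γ n = ⊤ := by
  refine Subgroup.lowerCentralSeries_eq_bot_iff_upperCentralSeries_eq_top.1 ?_
  refine (Subgroup.eq_bot_iff_forall _).2 fun x hx => ?_
  obtain ⟨m, a, ha⟩ := lowerCentralSeries_le_covered n hx
  obtain ⟨H, _, φ, hφ, htop⟩ := h m a
  simpa [Subgroup.lowerCentralSeries_eq_bot_iff_upperCentralSeries_eq_top.2 htop] using ha H φ hφ

variable {H : Type v} [Group H]

theorem derivedSeries_eq_bot_of_injective {n : ℕ} (φ : Γ →* H) (hφ : Function.Injective φ)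
    (h : derivedSeries H n = ⊥) : derivedSeries Γ n = ⊥ :=
  (Subgroup.map_eq_bot_iff_of_injective _ hφ).1
    (le_bot_iff.1 (h ▸ map_derivedSeries_le_derivedSeries φ n))

theorem upperCentralSeries_eq_top_of_injective {n : ℕ} (φ : Γ →* H) (hφ : Function.Injective φ)
    (h : Subgroup.upperCentralSeries H n = ⊤) : Subgroup.upperCentralSeries Γ n = ⊤ := by
  refine Subgroup.lowerCentralSeries_eq_bot_iff_upperCentralSeries_eq_top.1 ?_
  refine (Subgroup.map_eq_bot_iff_of_injective _ hφ).1 (le_bot_iff.1 ?_)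
  refine le_trans (Subgroup.lowerCentralSeries.map φ n) (le_of_eq ?_)
  exact Subgroup.lowerCentralSeries_eq_bot_iff_upperCentralSeries_eq_top.2 h

theorem derivedSeries_eq_bot_of_surjective {n : ℕ} (φ : Γ →* H) (hφ : Function.Surjective φ)
    (h : derivedSeries Γ n = ⊥) : derivedSeries H n = ⊥ :=
  derivedSeries_eq_bot_of_local fun _ _ => ⟨Γ, _, φ, fun _ => hφ _, h⟩

theorem upperCentralSeries_eq_top_of_surjective {n : ℕ} (φ : Γ →* H) (hφ : Function.Surjective φ)
    (h : Subgroup.upperCentralSeries Γ n = ⊤) : Subgroup.upperCentralSeries H n = ⊤ :=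
  upperCentralSeries_eq_top_of_local fun _ _ => ⟨Γ, _, φ, fun _ => hφ _, h⟩

end GrpLaw19
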