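import Groth.Prelude.Def_AGF
import Groth.Prelude.Def_Red2
import Groth.Agent.Lib.GrpLaw19.Series
import Groth.Agent.Lib.AbRigid.Epi

/-!
# Uniform group-theoretic properties of group schemes under base change

Along a scheme-theoretically dominant base change a flat separated group scheme is solvable
(nilpotent) as soon as its base change is; both properties are stable under base change.
-/

set_option autoImplicit false

universe u

open CategoryTheory MonoidalCategory CartesianMonoidalCategory MonObj AlgebraicGeometry CategoryTheory.Limits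

noncomputable section

namespace GrpLaw19

variable {S S' : Scheme.{u}} (G : Over S) [GrpObj G]

/-- Powers of `G`. -/
def pow : ℕ → Over S
  | 0 => 𝟙_ _
  | m + 1 => G ⊗ pow m

instance flat_pow [Flat G.hom] : ∀ m, Flat (pow G m).hom
  | 0 => inferInstanceAs (Flat (𝟙 S))
  | m + 1 => by
    have := flat_pow m
    exact inferInstanceAs (Flat (pullback.fst G.hom (pow G m).hom ≫ G.hom))

theorem exists_universal {X : Over S} : ∀ {m : ℕ} (a : Fin m → (X ⟶ G)),
    ∃ t : X ⟶ pow G m, ∀ i, ∃ p : pow G m ⟶ G, t ≫ p = a i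
  | 0, _ => ⟨toUnit X, fun i => i.elim0⟩
  | m + 1, a => by
    obtain ⟨t, ht⟩ := exists_universal (fun i : Fin m => a i.succ)
    refine ⟨lift (a 0) t, fun i => ?_⟩
    refine Fin.cases ?_ (fun i => ?_) i
    · exact ⟨fst _ _, lift_fst _ _⟩
    · obtain ⟨p, hp⟩ := ht i
      exact ⟨snd G (pow G m) ≫ p, (lift_snd_assoc (a 0) t p).trans hp⟩

/-- Precomposition as a homomorphism of point groups. -/
def precomp {X Y : Over S} (t : X ⟶ Y) : (Y ⟶ G) →* (X ⟶ G) where
  toFun a := t ≫ a
  map_one' := MonObj.comp_one t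
  map_mul' a b := MonObj.comp_mul t a b

theorem map_injective [Flat G.hom] [IsSeparated G.hom] (j : S' ⟶ S) [IsSchemeTheoreticallyDominant j]
    [QuasiCompact j] (P : Over S) [Flat P.hom] :
    Function.Injective ((Over.pullback j).homMonoidHom (X := P) (M := G)) := by
  intro a b h
  ext1
  refine Groth.Agent.AbRigid.eq_of_comp_eq_of_ker_eq_bot (pullback.fst P.hom j)
    (Scheme.Hom.ker_eq_bot _) G.hom _ _ ((Over.w _).trans (Over.w _).symm) ?_
  have e : ∀ m : P ⟶ G, ((Over.pullback j).map m).left ≫ pullback.fst G.hom j =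
      pullback.fst P.hom j ≫ m.left := fun m => pullback.lift_fst _ _ _
  have h' : (Over.pullback j).map a = (Over.pullback j).map b := h
  rw [← e, ← e, h']

variable {G}

theorem isSolvableGrp_of_bc [Flat G.hom] [IsSeparated G.hom] (j : S' ⟶ S)
    [IsSchemeTheoreticallyDominant j] [QuasiCompact j] (h : Red.IsSolvableGrp (Red.bc j G)) :
    Red.IsSolvableGrp G := by
  obtain ⟨n, hn⟩ := h
  refine ⟨n, fun X => derivedSeries_eq_bot_of_local fun m a => ?_⟩
  obtain ⟨t, ht⟩ := exists_universal G a
  exact ⟨_, _, precomp G t, ht,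
    derivedSeries_eq_bot_of_injective _ (map_injective G j (pow G m)) (hn _)⟩

theorem isNilpotentGrp_of_bc [Flat G.hom] [IsSeparated G.hom] (j : S' ⟶ S)
    [IsSchemeTheoreticallyDominant j] [QuasiCompact j] (h : AGF.IsNilpotentGrp (Red.bc j G)) :
    AGF.IsNilpotentGrp G := by
  obtain ⟨n, hn⟩ := h
  refine ⟨n, fun X => upperCentralSeries_eq_top_of_local fun m a => ?_⟩
  obtain ⟨t, ht⟩ := exists_universal G a
  exact ⟨_, _, precomp G t, ht,
    upperCentralSeries_eq_top_of_injective _ (map_injective G j (pow G m)) (hn _)⟩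

theorem bc_surjective (f : S' ⟶ S) (X : Over S') :
    Function.Surjective ((precomp (Red.bc f G) ((Over.mapPullbackAdj f).unit.app X)).comp
      ((Over.pullback f).homMonoidHom (X := (Over.map f).obj X) (M := G))) :=
  fun a => ⟨((Over.mapPullbackAdj f).homEquiv X G).symm a,
    ((Over.mapPullbackAdj f).homEquiv_unit _ _ _).symm.trans (Equiv.apply_symm_apply _ _)⟩

theorem isSolvableGrp_bc (f : S' ⟶ S) (h : Red.IsSolvableGrp G) : Red.IsSolvableGrp (Red.bc f G) := by
  obtain ⟨n, hn⟩ := h
  exact ⟨n, fun X => derivedSeries_eq_bot_of_surjective _ (bc_surjective f X) (hn _)⟩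

theorem isNilpotentGrp_bc (f : S' ⟶ S) (h : AGF.IsNilpotentGrp G) :
    AGF.IsNilpotentGrp (Red.bc f G) := by
  obtain ⟨n, hn⟩ := h
  exact ⟨n, fun X => upperCentralSeries_eq_top_of_surjective _ (bc_surjective f X) (hn _)⟩

end GrpLaw19
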